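import Cfsg.Agent.H708.Rg.Tri
import Cfsg.Agent.H823.O8R.Defs

/-!
# S3691, `PΩ⁺₈(q)`: box TRI-V (helper708)

`tri_V` : a subgroup fixing a nonsingular point or an anisotropic plane, of order divisible by `r₄`, has a triality image
containing an element of order `r₄` without nonzero fixed vectors.
-/

set_option autoImplicit false
set_option linter.unusedSectionVars false

namespace Cfsg.Agent.H708.Rg

open Module QuadraticMap Cfsg Cfsg.Geo Cfsg.Agent.LieClassical.OrthCore Cfsg.Agent.LieClassical.OrthTrans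
  Cfsg.Agent.LieClassical.OrthSimple Cfsg.Agent.ClassicalGeometry.OrthAut1
  Cfsg.Agent.ClassicalGeometry.OrthSemi Cfsg.Agent.H198.Classes
  Cfsg.Agent.LieClassical.QuadForms Cfsg.Agent.H198.ClassesPlus
  Cfsg.Agent.ClassicalGeometry.TrialityOct Cfsg.Agent.ClassicalGeometry.Triality
  Cfsg.Agent.ClassicalGeometry.TrialitySpaces Cfsg.Agent.H198.TriBase Cfsg.Agent.H198.TriAut
open Cfsg.Agent.H884.El Cfsg.Agent.H955 Cfsg.Agent.H954.TSing
open Cfsg.Agent.H951 (fx cm Inv)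
open Cfsg.Agent.H708.O8 (I8 T8 RB)
open Cfsg.Agent.H436 (Prim)
open Cfsg.Agent.H823.O8S Cfsg.Agent.H823.O8R
open Cfsg.Agent.AutOrth.Main (oe pe oe_apply pe_mk)
open scoped MatrixGroups Matrix

section gen

variable {F : Type} [Field F] [Fintype F] {r : ℕ} {Q : QuadraticForm F (Fin 4 ⊕ Fin 4 → F)}

theorem oe_lin (hG : Good Q) (g : Omega F ⇑Q) (v : I8 → F) :
    (oe hG g : (I8 → F) ≃ₗ[F] (I8 → F)) v = lin ((g : isometryGroup F ⇑Q) : GL I8 F) v := by
  rw [oe_apply, H884.El.lin, Matrix.toLin'_apply]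

/-- the automorphism of `POmega F Q` corresponding to an automorphism of `E Q / Z(E Q)` -/
noncomputable def toPO (hG : Good Q) (α : MulAut (P Q)) : MulAut (POmega F ⇑Q) := MulAut.congr (pe hG).symm α

theorem toPO_mk (hG : Good Q) (α : MulAut (P Q)) (x y : Omega F ⇑Q)
    (h : α ((oe hG x : ↥(E Q)) : P Q) = ((oe hG y : ↥(E Q)) : P Q)) :
    toPO hG α (QuotientGroup.mk x) = QuotientGroup.mk y := by
  change (pe hG).symm (α ((pe hG).symm.symm (QuotientGroup.mk x))) = _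
  rw [MulEquiv.symm_symm, pe_mk, h, MulEquiv.symm_apply_eq, pe_mk]

/-- the form of TRI-V for one element -/
theorem exists_alpha (hQ : Q = plusForm 4 F) (hG : Good Q) (hr : PP (Nat.card F) 4 r) {R : Subgroup (POmega F ⇑Q)}
    {g : GL I8 F} (hg : g ∈ pre ⇑Q R) (hgr : orderOf g = r) (hfx : fx (lin g) ≠ ⊥) :
    ∃ (α : MulAut (POmega F ⇑Q)) (y : GL I8 F), y ∈ pre ⇑Q (R.map α.toMonoidHom) ∧ orderOf y = r ∧
      fx (lin y) = ⊥ := by
  subst hQ
  obtain ⟨_, ⟨x, hx, rfl⟩, rfl⟩ := hg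
  have hxR : (QuotientGroup.mk x : POmega F ⇑(plusForm 4 F)) ∈ R := hx
  have hodd := hr.odd (by norm_num)
  have hinj : Function.Injective ((isometryGroup F ⇑(plusForm 4 F)).subtype.comp
      (Omega F ⇑(plusForm 4 F)).subtype) :=
    (isometryGroup F ⇑(plusForm 4 F)).subtype_injective.comp (Omega F ⇑(plusForm 4 F)).subtype_injective
  have hxr : orderOf x = r := by
    rw [← hgr]
    exact (orderOf_injective _ hinj x).symm
  have hxr1 : x ^ r = 1 := by rw [← hxr]; exact pow_orderOf_eq_one x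
  set g₀ : ↥(E (plusForm 4 F)) := oe hG x with hg₀
  have hg₀r : g₀ ^ r = 1 := by rw [hg₀, ← map_pow, hxr1, map_one]
  have hg₀ne : (g₀ : V8 F ≃ₗ[F] V8 F) ≠ 1 := by
    intro h
    have h1 : g₀ = 1 := Subtype.ext h
    have h2 : x = 1 := (oe hG).injective (by rw [← hg₀, h1, map_one])
    rw [h2, orderOf_one] at hxr
    exact hr.prime.one_lt.ne hxr
  have hfix : ∃ v, v ≠ 0 ∧ (g₀ : V8 F ≃ₗ[F] V8 F) v = v := by
    obtain ⟨v, hv, hv0⟩ := (Submodule.ne_bot_iff _).1 hfx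
    refine ⟨v, hv0, ?_⟩
    rw [hg₀, oe_lin]
    exact H951.mem_fx.1 hv
  obtain ⟨g₁, g₂, h⟩ := exists_triple hG g₀.2
  have hg1E : g₁ ∈ E (plusForm 4 F) := h.1.2.1
  have hg1r : ((⟨g₁, hg1E⟩ : ↥(E (plusForm 4 F))) ^ r) ^ 2 = 1 := by
    have h1 : (((⟨g₁, hg1E⟩ : ↥(E (plusForm 4 F))) ^ r : ↥(E (plusForm 4 F))) : P8 F) = 1 := by
      have h2 := tau_mk hG (g := g₀) (g₁ := ⟨g₁, hg1E⟩) h
      rw [QuotientGroup.mk_pow, ← h2, ← map_pow, ← QuotientGroup.mk_pow, hg₀r]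
      exact map_one _
    rw [QuotientGroup.eq_one_iff] at h1
    obtain ⟨c, hc⟩ := center_scalar hG h1
    have h3 := iso_of_E ((⟨g₁, hg1E⟩ : ↥(E (plusForm 4 F))) ^ r).2 (one8 F)
    rw [hc, QuadraticMap.map_smul, norm_one8, smul_eq_mul, mul_one] at h3
    apply Subtype.ext
    ext1 v
    change ((((⟨g₁, hg1E⟩ : ↥(E (plusForm 4 F))) ^ r) ^ 2 : ↥(E (plusForm 4 F))) : V8 F ≃ₗ[F] V8 F) v = v
    rw [pow_two]
    change ((((⟨g₁, hg1E⟩ : ↥(E (plusForm 4 F))) ^ r : ↥(E (plusForm 4 F)))) : V8 F ≃ₗ[F] V8 F)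
      (((((⟨g₁, hg1E⟩ : ↥(E (plusForm 4 F))) ^ r : ↥(E (plusForm 4 F)))) : V8 F ≃ₗ[F] V8 F) v) = v
    rw [hc, hc, smul_smul, h3, one_smul]
  set y₀ : ↥(E (plusForm 4 F)) := (⟨g₁, hg1E⟩ : ↥(E (plusForm 4 F))) ^ (r + 1) with hy₀
  have hy₀r : y₀ ^ r = 1 := by
    obtain ⟨m, hm⟩ : 2 ∣ r + 1 := by
      obtain ⟨k, hk⟩ := hodd
      exact ⟨k + 1, by omega⟩
    rw [hy₀, ← pow_mul, mul_comm, pow_mul, hm, pow_mul, hg1r, one_pow]
  have htri : ∀ u v, (g₀ : V8 F ≃ₗ[F] V8 F) (omul u v) =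
      omul ((y₀ : V8 F ≃ₗ[F] V8 F) u) ((g₂ ^ (r + 1)) v) := by
    have h1 : ∀ n : ℕ, Tri ((g₀ : V8 F ≃ₗ[F] V8 F) ^ n) (g₁ ^ n) (g₂ ^ n) := by
      intro n
      induction n with
      | zero => intro u v; rfl
      | succ n ih =>
        rw [pow_succ, pow_succ, pow_succ]
        exact ih.mul h.2
    have h2 : (g₀ : V8 F ≃ₗ[F] V8 F) ^ (r + 1) = (g₀ : V8 F ≃ₗ[F] V8 F) := by
      have h3 : (g₀ : V8 F ≃ₗ[F] V8 F) ^ r = 1 := congrArg Subtype.val hg₀r
      rw [pow_succ, h3, one_mul]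
    intro u v
    have h4 := h1 (r + 1) u v
    rw [h2] at h4
    exact h4
  have hno : ∀ v, (y₀ : V8 F ≃ₗ[F] V8 F) v = v → v = 0 :=
    tri_no_fix₁ hr htri (iso_of_E g₀.2) (iso_of_E y₀.2) (congrArg Subtype.val hg₀r) (congrArg Subtype.val hy₀r)
      hg₀ne hfix
  set y := (oe hG).symm y₀ with hy
  have hoy : oe hG y = y₀ := (oe hG).apply_symm_apply y₀
  refine ⟨toPO hG (tau hG), ((y : isometryGroup F ⇑(plusForm 4 F)) : GL I8 F), ?_, ?_, ?_⟩
  · rw [mem_pre, Subgroup.mem_map]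
    refine ⟨QuotientGroup.mk x, hxR, ?_⟩
    change toPO hG (tau hG) (QuotientGroup.mk x) = QuotientGroup.mk y
    apply toPO_mk
    rw [hoy, ← hg₀, hy₀, QuotientGroup.mk_pow]
    have h2 := tau_mk hG (g := g₀) (g₁ := ⟨g₁, hg1E⟩) h
    rw [← h2, ← map_pow, ← QuotientGroup.mk_pow, pow_succ, hg₀r, one_mul]
  · have h1 : y ^ r = 1 := by rw [hy, ← map_pow, hy₀r, map_one]
    have h2 : y ≠ 1 := by
      intro h
      have h3 : y₀ = 1 := by rw [← hoy, h, map_one]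
      have h4 := hno (one8 F) (by rw [h3]; rfl)
      have h5 := norm_one8 (F := F)
      rw [h4, QuadraticMap.map_zero] at h5
      exact zero_ne_one h5
    have := Fact.mk hr.prime
    have h3 : orderOf y = r := orderOf_eq_prime h1 h2
    rw [← h3]
    exact orderOf_injective _ hinj y
  · rw [eq_bot_iff]
    intro v hv
    have h1 : lin ((y : isometryGroup F ⇑(plusForm 4 F)) : GL I8 F) v = v := H951.mem_fx.1 hv
    rw [← oe_lin hG, hoy] at h1
    exact hno v h1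

end gen

section row

variable {F : Type} [Field F] [Fintype F] {p a r b s k t : ℕ} {R : Subgroup (T8 F)}

theorem pp_of_nm (hF : Nat.card F = p ^ a) (h : Nm p a r b s k t) : PP (Nat.card F) 4 r := by
  have h1 : PP p (a * 4) r := by
    rw [mul_comm]
    exact prim_pp h.rb.hp.one_le h.rb.prim
  rw [hF]
  exact h1.of_pow h.rb.ha

theorem iso_pre {R : Subgroup (T8 F)} {g : GL I8 F} (hg : g ∈ pre (quadFormPlus 4 F) R) (v : I8 → F) :
    plusForm 4 F (lin g v) = plusForm 4 F v := by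
  rw [show (plusForm 4 F : (I8 → F) → F) = quadFormPlus 4 F from coe_plusForm 4]
  have h1 : g ∈ omegaGL (quadFormPlus 4 F) := pre_le_omegaGL hg
  exact H823.O8S.iso_of_omega h1 v

/-- an element of order `r₄` fixes the vectors of the small invariant subspaces -/
theorem fx_ne_bot (hr : PP (Nat.card F) 4 r) (hV : FixV R ∨ FixP R) {g : GL I8 F}
    (hg : g ∈ pre (quadFormPlus 4 F) R) (hgr : orderOf g = r) : fx (lin g) ≠ ⊥ := by
  have hiso : Iso (plusForm 4 F) (lin g) r :=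
    Iso.mk' hr (by norm_num) (by rw [← lin_pow, ← hgr, pow_orderOf_eq_one, lin_one]) (iso_pre hg)
  have key : ∀ W : Submodule F (I8 → F), finrank F W ≠ 0 → finrank F W < 4 → pre (quadFormPlus 4 F) R ≤ SW W →
      fx (lin g) ≠ ⊥ := by
    intro W h0 h4 hle h
    have h1 : W.map (lin g) = W := hle hg
    have h2 : Inv (lin g) W := fun w hw => by
      rw [← h1]
      exact ⟨w, hw, rfl⟩
    have h3 := hiso.le_fx hr h2 h4
    rw [h, le_bot_iff] at h3
    rw [h3, finrank_bot] at h0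
    exact h0 rfl
  rcases hV with ⟨w, hw, hle⟩ | ⟨W, hW, -, hle⟩
  · have hw0 : w ≠ 0 := by
      rintro rfl
      exact hw (by rw [← coe_plusForm 4]; exact QuadraticMap.map_zero _)
    have h1 := finrank_span_singleton (K := F) hw0
    exact key _ (by rw [h1]; norm_num) (by rw [h1]; norm_num) hle
  · exact key W (by rw [hW]; norm_num) (by rw [hW]; norm_num) hle

/-- **TRI-V** -/
theorem tri_V (hF : Nat.card F = p ^ a) (h : Nm p a r b s k t) (hV : FixV R ∨ FixP R) (hr : r ∣ Nat.card R) :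
    ∃ (α : MulAut (T8 F)) (y : GL I8 F), y ∈ pre (quadFormPlus 4 F) (R.map α.toMonoidHom) ∧ orderOf y = r ∧
      fx (lin y) = ⊥ := by
  have hpp := pp_of_nm hF h
  have h1 : r ∣ Nat.card (pre (quadFormPlus 4 F) R) := hr.trans card_dvd_pre
  have := Fact.mk hpp.prime
  obtain ⟨g, hg⟩ := exists_prime_orderOf_dvd_card' r h1
  have hgr : orderOf (g : GL I8 F) = r := by rw [Subgroup.orderOf_coe, hg]
  have hfx := fx_ne_bot hpp hV g.2 hgr
  exact exists_alpha (Q := H198.Carriers.plusQ 4 F) (H198.Carriers.plusQ_eq 4 F)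
    (H198.Carriers.good_plusQ (by norm_num)) hpp (R := R) g.2 hgr hfx

end row

end Cfsg.Agent.H708.Rg
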