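import Cfsg.Agent.H708.Rg.OctJ
import Cfsg.Agent.H708.Rg.TriV

/-!
# S3691, `PΩ⁺₈(q)`: box TRI-J (helper708)

`tri_J` : a subgroup normalising a field `F[J]` of similitudes of order `q²` has a triality image which fixes an anisotropic plane.
-/

set_option autoImplicit false
set_option linter.unusedSectionVars false

namespace Cfsg.Agent.H708.Rg

open Module QuadraticMap Cfsg Cfsg.Geo Cfsg.Agent.LieClassical.OrthCore Cfsg.Agent.LieClassical.OrthTrans
  Cfsg.Agent.LieClassical.OrthSimple Cfsg.Agent.ClassicalGeometry.OrthAut1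
  Cfsg.Agent.ClassicalGeometry.OrthSemi Cfsg.Agent.H198.Classes
  Cfsg.Agent.LieClassical.QuadForms Cfsg.Agent.H198.ClassesPlus
  Cfsg.Agent.ClassicalGeometry.TrialityOct Cfsg.Agent.ClassicalGeometry.Triality
  Cfsg.Agent.ClassicalGeometry.TrialitySpaces Cfsg.Agent.H198.TriBase Cfsg.Agent.H198.TriAut
open Cfsg.Agent.H884.El Cfsg.Agent.H955 Cfsg.Agent.H954.TSing
open Cfsg.Agent.H951 (fx cm Inv)
open Cfsg.Agent.H708.O8 (I8 T8 RB)
open Cfsg.Agent.H436 (Prim)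
open Cfsg.Agent.H823.O8S Cfsg.Agent.H823.O8R
open Cfsg.Agent.AutOrth.Main (oe pe oe_apply pe_mk)
open scoped MatrixGroups Matrix

section quad

variable {F : Type*} [Field F]

theorem quad_zero {c d : F} (irr : ∀ z : F, z * z - c * z + d ≠ 0) {x y : F}
    (h : x * x + c * (x * y) + d * (y * y) = 0) : x = 0 ∧ y = 0 := by
  by_cases hx : x = 0
  · subst hx
    refine ⟨rfl, ?_⟩
    by_contra hy
    have hd : d ≠ 0 := by
      intro hd
      apply irr 0
      rw [hd]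
      ring
    have h1 : d * (y * y) = 0 := by linear_combination h
    exact (mul_ne_zero hd (mul_ne_zero hy hy)) h1
  · exfalso
    by_cases hy : y = 0
    · subst hy
      have h1 : x * x = 0 := by linear_combination h
      exact (mul_ne_zero hx hx) h1
    · apply irr (-(x / y))
      field_simp
      linear_combination h

theorem norm_Wa {c d : F} (x y : F) : plusForm 4 F (x • one8 F + y • aJ c d) = x * x + c * (x * y) + d * (y * y) := by
  rw [Q_add, QuadraticMap.map_smul, QuadraticMap.map_smul, norm_one8, norm_aJ, polar_smul_left, polar_smul_right,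
    trace_aJ]
  simp only [smul_eq_mul]
  ring

theorem li_aJ {c d : F} (irr : ∀ z : F, z * z - c * z + d ≠ 0) : LinearIndependent F ![one8 F, aJ c d] := by
  rw [LinearIndependent.pair_iff]
  intro s t hst
  apply quad_zero irr
  rw [← norm_Wa, hst, QuadraticMap.map_zero]

theorem aniso_Wa {c d : F} (irr : ∀ z : F, z * z - c * z + d ≠ 0) : ∀ w ∈ Wa (aJ c d), plusForm 4 F w = 0 → w = 0 := by
  intro w hw h0
  obtain ⟨s, t, rfl⟩ := Submodule.mem_span_pair.1 hw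
  rw [norm_Wa] at h0
  obtain ⟨rfl, rfl⟩ := quad_zero irr h0
  simp

theorem oconj_aJ (c d : F) : oconj (aJ c d) = c • one8 F - aJ c d := by
  rw [oconj_eq, trace_aJ]

theorem li_conj {c d : F} (irr : ∀ z : F, z * z - c * z + d ≠ 0) : LinearIndependent F ![one8 F, oconj (aJ c d)] := by
  rw [LinearIndependent.pair_iff]
  intro s t hst
  rw [oconj_aJ] at hst
  obtain ⟨h1, h2⟩ := LinearIndependent.pair_iff.1 (li_aJ irr) (s + t * c) (-t) (by
    rw [← hst]
    module)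
  have h3 : t = 0 := neg_eq_zero.1 h2
  rw [h3, zero_mul, add_zero] at h1
  exact ⟨h1, h3⟩

theorem Wa_conj (c d : F) : Wa (oconj (aJ c d)) = Wa (aJ c d) := by
  apply le_antisymm
  · refine Submodule.span_le.2 ?_
    rintro w (rfl | rfl)
    · exact one_mem_Wa _
    · rw [oconj_aJ]
      exact Submodule.sub_mem _ (Submodule.smul_mem _ _ (one_mem_Wa _)) (self_mem_Wa _)
  · refine Submodule.span_le.2 ?_
    rintro w (rfl | rfl)
    · exact one_mem_Wa _
    · have : aJ c d = c • one8 F - oconj (aJ c d) := by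
        rw [oconj_aJ]
        abel
      rw [this]
      refine Submodule.sub_mem _ (Submodule.smul_mem _ _ (one_mem_Wa _)) ?_
      rw [← this]
      exact self_mem_Wa _

theorem omul_conj (c d : F) (v : V8 F) : omul (oconj (aJ c d)) v = c • v - omul (aJ c d) v := by
  have h2 : omul (-aJ c d) v = -omul (aJ c d) v := by
    have := smul_omul (-1) (aJ c d) v
    rwa [neg_one_smul, neg_one_smul] at this
  rw [oconj_aJ, sub_eq_add_neg, add_omul, smul_omul, one_omul, h2, sub_eq_add_neg]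

/-- `g₁` preserves `⟨1, a⟩` -/
theorem map_Wa {c d : F} (irr : ∀ z : F, z * z - c * z + d ≠ 0) {g g₁ g₂ : V8 F ≃ₗ[F] V8 F} (h : Tri g g₁ g₂)
    (hg₁ : g₁ ∈ O (plusForm 4 F))
    (hg : (∀ v, g (omul (aJ c d) v) = omul (aJ c d) (g v)) ∨
      ∀ v, g (omul (aJ c d) v) = c • g v - omul (aJ c d) (g v)) :
    ∀ w ∈ Wa (aJ c d), g₁ w ∈ Wa (aJ c d) := by
  have hd : d ≠ 0 := by
    intro hd
    apply irr 0
    rw [hd]
    ring
  have ha : plusForm 4 F (aJ c d) ≠ 0 := by rwa [norm_aJ]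
  have h1 : ∀ x ∈ perp (plusForm 4 F) (Wa (aJ c d)), g₁ x ∈ perp (plusForm 4 F) (Wa (aJ c d)) := by
    rcases hg with hg | hg
    · exact map_perp ha rfl (li_aJ irr) (li_aJ irr) h hg
    · have h2 := map_perp ha (norm_oconj _) (li_aJ irr) (li_conj irr) h (fun v => by rw [hg, omul_conj])
      rwa [Wa_conj] at h2
  have h2 : (perp (plusForm 4 F) (Wa (aJ c d))).map (g₁ : V8 F →ₗ[F] V8 F) = perp (plusForm 4 F) (Wa (aJ c d)) := by
    refine Submodule.eq_of_le_of_finrank_eq ?_ (LinearEquiv.finrank_map_eq g₁ _)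
    rintro _ ⟨x, hx, rfl⟩
    exact h1 x hx
  intro w hw
  rw [← perp_perp ClassicalGeometry.Triality.nondeg8 (Wa (aJ c d)), mem_perp]
  intro z hz
  rw [← h2] at hz
  obtain ⟨x, hx, rfl⟩ := hz
  change polar (plusForm 4 F) (g₁ x) (g₁ w) = 0
  rw [polar_map hg₁, polar_comm]
  exact hx w hw

end quad

section gen

variable {F : Type} [Field F] [Fintype F] {Q : QuadraticForm F (Fin 4 ⊕ Fin 4 → F)}

theorem triJ_gen (hQ : Q = plusForm 4 F) (hG : Good Q) {R : Subgroup (POmega F ⇑Q)} {J : V8 F →ₗ[F] V8 F} {c d : F}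
    (h : FJ Q J c d) (hR : ∀ g : GL I8 F, g ∈ pre ⇑Q R → (∀ v, lin g (J v) = J (lin g v)) ∨
      (∀ v, lin g (J v) = c • lin g v - J (lin g v))) :
    ∃ (α : MulAut (POmega F ⇑Q)) (W : Submodule F (I8 → F)), finrank F W = 2 ∧ (∀ w ∈ W, Q w = 0 → w = 0) ∧
      pre ⇑Q (R.map α.toMonoidHom) ≤ SW W := by
  subst hQ
  have hd8 : finrank F (V8 F) = 2 * 4 := by
    rw [finrank_fintype_fun_eq_card]
    simp
  obtain ⟨M, hM1, hM2⟩ := exists_isometry ClassicalGeometry.Triality.nondeg8 h (fj_lmul h.irr) hd8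
  set M' : G8 F := gamO _ ⟨M, hM1⟩ with hM'
  have hM3 : ∀ v, M (J v) = omul (aJ c d) (M v) := hM2
  refine ⟨toPO hG (tau hG * Psi _ M'), Wa (aJ c d), finrank_Wa (li_aJ h.irr), aniso_Wa h.irr, ?_⟩
  rintro _ ⟨_, ⟨x, hx, rfl⟩, rfl⟩
  obtain ⟨z, hz, hzx⟩ := hx
  obtain ⟨g, rfl⟩ := QuotientGroup.mk_surjective z
  have hzx' : toPO hG (tau hG * Psi _ M') (QuotientGroup.mk g) = QuotientGroup.mk x := hzx
  have hgR := hR ((g : isometryGroup F ⇑(plusForm 4 F)) : GL I8 F) ⟨_, ⟨g, hz, rfl⟩, rfl⟩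
  have e1 : (tau hG * Psi _ M') ((oe hG g : ↥(E (plusForm 4 F))) : P8 F) = ((oe hG x : ↥(E (plusForm 4 F))) : P8 F) := by
    have e2 : (pe hG).symm ((tau hG * Psi _ M') ((pe hG) (QuotientGroup.mk g))) = QuotientGroup.mk x := hzx'
    rw [MulEquiv.symm_apply_eq, pe_mk, pe_mk] at e2
    exact e2
  rw [MulAut.mul_apply, Psi_mk] at e1
  set g' : ↥(E (plusForm 4 F)) := conjE _ M' (oe hG g) with hg'
  have hg'M : ∀ v, (g' : V8 F ≃ₗ[F] V8 F) (M v) = M (lin ((g : isometryGroup F ⇑(plusForm 4 F)) : GL I8 F) v) := by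
    intro v
    have h1 : (g' : V8 F ≃ₗ[F] V8 F) (M'.1 v) = M'.1 ((oe hG g : V8 F ≃ₗ[F] V8 F) v) := by
      rw [hg', coe_conjE, conjLin_apply']
    rw [oe_lin] at h1
    exact h1
  have hcase : (∀ v, (g' : V8 F ≃ₗ[F] V8 F) (omul (aJ c d) v) = omul (aJ c d) ((g' : V8 F ≃ₗ[F] V8 F) v)) ∨
      ∀ v, (g' : V8 F ≃ₗ[F] V8 F) (omul (aJ c d) v) =
        c • (g' : V8 F ≃ₗ[F] V8 F) v - omul (aJ c d) ((g' : V8 F ≃ₗ[F] V8 F) v) := by
    rcases hgR with h1 | h1
    · left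
      intro v
      obtain ⟨v, rfl⟩ := M.surjective v
      rw [← hM3, hg'M, h1, hM3, hg'M]
    · right
      intro v
      obtain ⟨v, rfl⟩ := M.surjective v
      rw [← hM3, hg'M, h1, map_sub, map_smul, hM3, hg'M]
  obtain ⟨g₁, g₂, ht⟩ := exists_triple hG g'.2
  rw [tau_mk hG (g₁ := ⟨g₁, ht.1.2.1⟩) ht] at e1
  have h2 := QuotientGroup.eq.1 e1
  obtain ⟨e, he⟩ := center_scalar hG h2
  have h3 : ∀ v, (oe hG x : V8 F ≃ₗ[F] V8 F) v = e • g₁ v := by
    intro v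
    have h4 := congrArg g₁ (he v)
    rw [map_smul] at h4
    have h5 : g₁ (((((⟨g₁, ht.1.2.1⟩ : ↥(E (plusForm 4 F)))⁻¹ * oe hG x : ↥(E (plusForm 4 F)))) : V8 F ≃ₗ[F] V8 F) v) =
        (oe hG x : V8 F ≃ₗ[F] V8 F) v := by
      change (g₁ * (g₁⁻¹ * (oe hG x : V8 F ≃ₗ[F] V8 F))) v = _
      rw [mul_inv_cancel_left]
    rw [h5] at h4
    exact h4
  have h6 := map_Wa h.irr ht.2 (E_le_O ht.1.2.1) hcase
  have h7 : (Wa (aJ c d)).map (lin ((x : isometryGroup F ⇑(plusForm 4 F)) : GL I8 F)) =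
      (Wa (aJ c d)).map ((oe hG x : V8 F ≃ₗ[F] V8 F) : V8 F →ₗ[F] V8 F) := by
    have h8 : lin ((x : isometryGroup F ⇑(plusForm 4 F)) : GL I8 F) =
        ((oe hG x : V8 F ≃ₗ[F] V8 F) : V8 F →ₗ[F] V8 F) := LinearMap.ext fun v => (oe_lin hG x v).symm
    rw [h8]
  change (Wa (aJ c d)).map (lin ((x : isometryGroup F ⇑(plusForm 4 F)) : GL I8 F)) = Wa (aJ c d)
  rw [h7]
  refine Submodule.eq_of_le_of_finrank_eq ?_ (LinearEquiv.finrank_map_eq (oe hG x : V8 F ≃ₗ[F] V8 F) _)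
  rintro _ ⟨w, hw, rfl⟩
  change (oe hG x : V8 F ≃ₗ[F] V8 F) w ∈ _
  rw [h3]
  exact Submodule.smul_mem _ _ (h6 w hw)

end gen

section row

variable {F : Type} [Field F] [Fintype F] {p a : ℕ} {R : Subgroup (T8 F)}

/-- **TRI-J** -/
theorem tri_J (_hF : Nat.card F = p ^ a) (h : FixJ R) : ∃ α : MulAut (T8 F), FixP (R.map α.toMonoidHom) := by
  obtain ⟨J, c, d, hJ, hR⟩ := h
  have h1 : FJ (H198.Carriers.plusQ 4 F) J c d := ⟨fun v => by
    have := congrArg (fun f : Module.End F (I8 → F) => f v) hJ.sq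
    exact this, hJ.irr, hJ.sim⟩
  obtain ⟨α, W, h2, h3, h4⟩ := triJ_gen (H198.Carriers.plusQ_eq 4 F) (H198.Carriers.good_plusQ (by norm_num)) h1
    (R := R) (fun g hg => hR hg)
  exact ⟨α, W, h2, h3, h4⟩

end row

end Cfsg.Agent.H708.Rg
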