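import Cfsg.Agent.H708.Rg.Uniq
import Cfsg.Agent.H964.Rg.Res

/-!
# S3691: the reduction to a subgroup of `G`, and `ResV`, `ResP` from data on `X ∩ T` (helper708)

* `fac_sub` : `Fac` for `H ≥ T, X`
* `eSub hT eT : T.subgroupOf H ≃* POmega F Q`; `autP_eSub`, `mem_preG_eSub`
* `G1 e` : the elements of `G` inducing on `T` semisimilitudes; `T_le_G1`, `ind_G1`
* `resV_of`, `resP_of` : `X` fixes the point / plane, if `X ∩ T` does and contains the Siegel transformations
-/

set_option autoImplicit false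
set_option linter.unusedSectionVars false

namespace Cfsg.Agent.H708.Rg

open Module QuadraticMap Cfsg Cfsg.Geo Cfsg.Agent.LieClassical.OrthCore Cfsg.Agent.LieClassical.OrthTrans
  Cfsg.Agent.ClassicalGeometry.OrthSemi Cfsg.Agent.H454.Reg Cfsg.Agent.H884.El Cfsg.Agent.H955 Cfsg.Agent.H449.Reg
  Cfsg.Agent.H964.Rg
open Cfsg.Agent.LieClassical.OrthFinite (glEquiv)
open scoped MatrixGroups Matrix Pointwise

universe u v

section fac

variable {G : Type u} [Group G] {T X Y : Subgroup G}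

theorem fac_sub [Finite G] (hf : Fac T X Y) {H : Subgroup G} (hT : T ≤ H) (hX : X ≤ H) :
    Fac (T.subgroupOf H) (X.subgroupOf H) (Y.subgroupOf H) := by
  have := hf.normal
  let e := Subgroup.subgroupOfEquivOfLe hT
  refine ⟨inferInstance, ?_, ?_, ?_, ?_, ?_, ?_, ?_, ?_⟩
  · have := hf.simple
    exact e.isSimpleGroup
  · intro h
    apply hf.nonab
    refine ⟨⟨fun a b => ?_⟩⟩
    have h1 := h.is_comm.comm (e.symm a) (e.symm b)
    rw [← map_mul, ← map_mul] at h1
    exact e.symm.injective h1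
  · rw [eq_bot_iff]
    intro g hg
    have h1 : (g : G) ∈ Subgroup.centralizer (T : Set G) := by
      rw [Subgroup.mem_centralizer_iff] at hg ⊢
      intro t ht
      exact congrArg Subtype.val (hg ⟨t, hT ht⟩ ht)
    rw [hf.cent, Subgroup.mem_bot] at h1
    exact Subtype.ext h1
  · intro h
    apply hf.not_le_left
    intro t ht
    exact h (show (⟨t, hT ht⟩ : H) ∈ T.subgroupOf H from ht)
  · intro h
    apply hf.not_le_right
    intro t ht
    exact h (show (⟨t, hT ht⟩ : H) ∈ T.subgroupOf H from ht)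
  · rw [eq_bot_iff]
    rintro g ⟨h1, h2⟩
    have h3 : (g : G) ∈ X ⊓ Y := ⟨h1, h2⟩
    rw [hf.inf, Subgroup.mem_bot] at h3
    exact Subtype.ext h3
  · have h1 : Disjoint (X.subgroupOf H) (Y.subgroupOf H) := by
      rw [disjoint_iff, eq_bot_iff]
      rintro g ⟨h1, h2⟩
      have h3 : (g : G) ∈ X ⊓ Y := ⟨h1, h2⟩
      rw [hf.inf, Subgroup.mem_bot] at h3
      exact Subtype.ext h3
    refine (Subgroup.isComplement'_of_disjoint_and_mul_eq_univ h1 ?_).card_mul_card
    rw [Set.eq_univ_iff_forall]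
    intro g
    obtain ⟨x, hx, y, hy, hxy⟩ := hf.exists_mul (g : G)
    have hyH : y ∈ H := by
      have : y = x⁻¹ * g := by rw [← hxy]; group
      rw [this]
      exact H.mul_mem (H.inv_mem (hX hx)) g.2
    exact ⟨⟨x, hX hx⟩, hx, ⟨y, hyH⟩, hy, Subtype.ext hxy⟩
  · rw [Nat.card_congr e.toEquiv]
    exact hf.large

end fac

section iso

variable {ι : Type} [Fintype ι] [DecidableEq ι] {F : Type v} [Field F] {Q : QuadraticForm F (ι → F)}
  {G : Type u} [Group G] {T : Subgroup G} {H X : Subgroup G}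

/-- the isomorphism for `T` as a subgroup of `H` -/
noncomputable def eSub (hT : T ≤ H) (eT : T ≃* POmega F (⇑Q)) : (T.subgroupOf H) ≃* POmega F (⇑Q) :=
  (Subgroup.subgroupOfEquivOfLe hT).trans eT

theorem coe_eSub_symm (hT : T ≤ H) (eT : T ≃* POmega F (⇑Q)) (x : POmega F (⇑Q)) :
    ((((eSub hT eT).symm x : T.subgroupOf H) : H) : G) = ((eT.symm x : T) : G) := rfl

variable [T.Normal] {hG : Good Q} {eT : T ≃* POmega F (⇑Q)}

theorem autP_eSub (hT : T ≤ H) (g : H) : autP (eP hG (eSub hT eT)) g = autP (eP hG eT) (g : G) := by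
  ext x
  obtain ⟨t, rfl⟩ := (eP hG (eSub hT eT)).surjective x
  rw [autP_apply]
  have h1 : eP hG (eSub hT eT) t = eP hG eT (Subgroup.subgroupOfEquivOfLe hT t) := rfl
  have h2 : ∀ t, eP hG (eSub hT eT) t = eP hG eT (Subgroup.subgroupOfEquivOfLe hT t) := fun _ => rfl
  rw [h1, autP_apply, h2]
  congr 1

theorem mem_preG_eSub (hT : T ≤ H) (g : GL ι F) : g ∈ preG (eSub hT eT) (X.subgroupOf H) ↔ g ∈ preG eT X := by
  constructor
  · intro h
    obtain ⟨x, rfl, hx⟩ := exists_of_mem_preG h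
    rw [mem_preG]
    exact hx
  · intro h
    obtain ⟨x, rfl, hx⟩ := exists_of_mem_preG h
    rw [mem_preG]
    exact hx

/-- the elements of `G` which induce semisimilitudes -/
def G1 (e : T ≃* (↥(E Q) ⧸ Subgroup.center ↥(E Q))) : Subgroup G := (Psi Q).range.comap (autP e)

theorem mem_G1 {e : T ≃* (↥(E Q) ⧸ Subgroup.center ↥(E Q))} {g : G} : g ∈ G1 e ↔ ∃ M, Psi Q M = autP e g := Iff.rfl

theorem T_le_G1 (e : T ≃* (↥(E Q) ⧸ Subgroup.center ↥(E Q))) : T ≤ G1 e := by
  intro t ht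
  obtain ⟨x, hx⟩ := QuotientGroup.mk_surjective (e ⟨t, ht⟩)
  exact ⟨lg x, by rw [Psi_lg, hx]; exact (autP_T e ⟨t, ht⟩).symm⟩

theorem ind_G1 : Ind (eP hG (eSub (T_le_G1 (eP hG eT)) eT)) := fun g => by
  obtain ⟨M, hM⟩ := g.2
  exact ⟨M, by rw [autP_eSub]; exact hM⟩

end iso

section res

variable {ι : Type} [Fintype ι] [DecidableEq ι] {F : Type v} [Field F] {Q : QuadraticForm F (ι → F)}
  {G : Type u} [Group G] {T : Subgroup G} [T.Normal] {hG : Good Q} {eT : T ≃* POmega F (⇑Q)} {X : Subgroup G}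

/-- `X` fixes `U` -/
theorem fix_of [Finite F] (hI : Ind (eP hG eT)) {U : Submodule F (ι → F)} (hU : ∀ w ∈ U, Q w = 0 → w = 0)
    (hd : 2 * finrank F U + 3 ≤ Fintype.card ι) (hle : preG eT X ≤ subspaceStabilizer U)
    (hs : ∀ (u w : ι → F) (hu : Q u = 0) (hw : polar Q u w = 0), u ∈ perp Q U → w ∈ perp Q U →
      (glEquiv ι F).symm (siegel Q u w hu hw) ∈ preG eT X) {x : G} (hx : x ∈ X) : act hI x U = U := by
  refine uniq hG.nondeg hU (by rwa [Module.finrank_fintype_fun_eq_card]) (finrank_act hI x U) ?_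
  intro u w hu hw huU hwU y hy
  have h1 : Inv0 hI X U := (inv0_iff hG).2 hle
  have h2 : preG eT X ≤ subspaceStabilizer (act hI x U) := (inv0_iff hG).1 (h1.act hG hx)
  have h3 := H884.OmegaGL.mem_subspaceStabilizer.1 (h2 (hs u w hu hw huU hwU)) y hy
  rwa [MulEquiv.apply_symm_apply] at h3

theorem resV_of [Finite F] (hI : Ind (eP hG eT)) {v : ι → F} (hv : Q v ≠ 0) (hd : 5 ≤ Fintype.card ι)
    (hle : preG eT X ≤ subspaceStabilizer (F ∙ v))
    (hs : ∀ (u w : ι → F) (hu : Q u = 0) (hw : polar Q u w = 0), polar Q u v = 0 → polar Q w v = 0 →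
      (glEquiv ι F).symm (siegel Q u w hu hw) ∈ preG eT X) : ResV hI X v := by
  have hv0 : v ≠ 0 := by
    rintro rfl
    exact hv (QuadraticMap.map_zero Q)
  refine ⟨hv, fun x hx => fix_of hI ?_ ?_ hle ?_ hx, hs⟩
  · intro w hw h0
    obtain ⟨c, rfl⟩ := Submodule.mem_span_singleton.1 hw
    rw [QuadraticMap.map_smul, smul_eq_mul] at h0
    rcases mul_eq_zero.1 h0 with h | h
    · rw [mul_self_eq_zero.1 h, zero_smul]
    · exact absurd h hv
  · rw [finrank_span_singleton hv0]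
    exact hd
  · intro u w hu hw huv hwv
    have hmem := Submodule.mem_span_singleton_self (R := F) v
    exact hs u w hu hw (mem_perp'.1 huv v hmem) (mem_perp'.1 hwv v hmem)

theorem resP_of [Finite F] (hI : Ind (eP hG eT)) {P : Submodule F (ι → F)} (hP : finrank F P = 2)
    (hP0 : ∀ x ∈ P, Q x = 0 → x = 0) (hd : 7 ≤ Fintype.card ι) (hle : preG eT X ≤ subspaceStabilizer P)
    (hs : ∀ (u w : ι → F) (hu : Q u = 0) (hw : polar Q u w = 0), u ∈ perp Q P → w ∈ perp Q P →
      (glEquiv ι F).symm (siegel Q u w hu hw) ∈ preG eT X) : ResP hI X P :=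
  ⟨hP, hP0, fun _ hx => fix_of hI hP0 (by rw [hP]; exact hd) hle hs hx, hs⟩

end res

end Cfsg.Agent.H708.Rg
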