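import Cfsg.Agent.H708.Rg.TriV
import Cfsg.Agent.H708.Rg.Red

/-!
# S3691, `PΩ⁺₈(q)`: the reduction to the elements inducing semisimilitudes (helper708)

`X ∩ T` fixes a nonsingular point or an anisotropic plane, `r₄` divides its order: no element of `X` induces a triality automorphism.

* `range_of_fix` : `autP (eP hG eT) x ∈ (Psi Q).range` for `x ∈ X`
* `g1_V`, `g1_P` : there is `H ≤ G` with `T ≤ H`, `X ≤ H`, `Fac T_H X_H Y_H`, `Ind`, `ResV` / `ResP`
-/

set_option autoImplicit false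
set_option linter.unusedSectionVars false

namespace Cfsg.Agent.H708.Rg

open Module QuadraticMap Cfsg Cfsg.Geo Cfsg.Agent.LieClassical.OrthCore Cfsg.Agent.LieClassical.OrthTrans
  Cfsg.Agent.LieClassical.OrthSimple Cfsg.Agent.ClassicalGeometry.OrthAut1
  Cfsg.Agent.ClassicalGeometry.OrthSemi Cfsg.Agent.H198.Classes
  Cfsg.Agent.LieClassical.QuadForms Cfsg.Agent.H198.ClassesPlus
  Cfsg.Agent.ClassicalGeometry.TrialityOct Cfsg.Agent.ClassicalGeometry.Triality
  Cfsg.Agent.ClassicalGeometry.TrialitySpaces Cfsg.Agent.H198.TriBase Cfsg.Agent.H198.TriAut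
open Cfsg.Agent.H884.El Cfsg.Agent.H955 Cfsg.Agent.H954.TSing
open Cfsg.Agent.H951 (fx cm Inv)
open Cfsg.Agent.H708.O8 (I8 T8 RB)
open Cfsg.Agent.H436 (Prim)
open Cfsg.Agent.H823.O8S Cfsg.Agent.H823.O8R
open Cfsg.Agent.AutOrth.Main (oe pe oe_apply pe_mk)
open Cfsg.Agent.H454.Reg Cfsg.Agent.H449.Reg Cfsg.Agent.H964.Rg
open Cfsg.Agent.LieClassical.OrthFinite (glEquiv)
open scoped MatrixGroups Matrix

universe u

section gen

variable {F : Type} [Field F] [Fintype F] {r : ℕ} {Q : QuadraticForm F (Fin 4 ⊕ Fin 4 → F)}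
  {G : Type u} [Group G] {T X : Subgroup G}

theorem exists_lift (hQ : Q = plusForm 4 F) (hG : Good Q) (hr : Odd r) {z : P Q} (hz : z ^ r = 1) :
    ∃ y : ↥(E Q), (y : P Q) = z ∧ y ^ r = 1 := by
  subst hQ
  obtain ⟨y', rfl⟩ := QuotientGroup.mk_surjective z
  have h1 : (y' ^ r) ^ 2 = 1 := by
    rw [← QuotientGroup.mk_pow, QuotientGroup.eq_one_iff] at hz
    obtain ⟨c, hc⟩ := center_scalar hG hz
    have h3 := iso_of_E (y' ^ r).2 (one8 F)
    rw [hc, QuadraticMap.map_smul, norm_one8, smul_eq_mul, mul_one] at h3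
    apply Subtype.ext
    ext1 v
    rw [pow_two]
    change ((y' ^ r : ↥(E (plusForm 4 F))) : V8 F ≃ₗ[F] V8 F) (((y' ^ r : ↥(E (plusForm 4 F))) : V8 F ≃ₗ[F] V8 F) v) = v
    rw [hc, hc, smul_smul, h3, one_smul]
  refine ⟨y' ^ (r + 1), ?_, ?_⟩
  · rw [QuotientGroup.mk_pow, pow_succ, hz, one_mul]
  · obtain ⟨m, hm⟩ : 2 ∣ r + 1 := by
      obtain ⟨k, hk⟩ := hr
      exact ⟨k + 1, by omega⟩
    rw [← pow_mul, mul_comm, pow_mul, hm, pow_mul, h1, one_pow]

theorem range_of (hQ : Q = plusForm 4 F) (hG : Good Q) (hr : PP (Nat.card F) 4 r) [Finite G] [T.Normal]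
    (eT : T ≃* POmega F ⇑Q) (hfx : ∀ g : GL I8 F, g ∈ preG eT X → orderOf g = r → fx (lin g) ≠ ⊥)
    (hd : r ∣ Nat.card (X.subgroupOf T)) {x : G} (hx : x ∈ X) : autP (eP hG eT) x ∈ (Psi Q).range := by
  have := Fact.mk hr.prime
  have hodd := hr.odd (by norm_num)
  -- lifts have fixed vectors
  have key : ∀ (t : T) (y : ↥(E Q)), (t : G) ∈ X → (y : P Q) = eP hG eT t → y ^ r = 1 → y ≠ 1 →
      ∃ v, v ≠ 0 ∧ (y : (I8 → F) ≃ₗ[F] (I8 → F)) v = v := by
    intro t y ht hy hyr hy1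
    set y' := (oe hG).symm y with hy'
    have hoy : oe hG y' = y := (oe hG).apply_symm_apply y
    have hinj : Function.Injective ((isometryGroup F ⇑Q).subtype.comp (Omega F ⇑Q).subtype) :=
      (isometryGroup F ⇑Q).subtype_injective.comp (Omega F ⇑Q).subtype_injective
    have h1 : ((y' : isometryGroup F ⇑Q) : GL I8 F) ∈ preG eT X := by
      rw [mem_preG]
      have h2 : eT.symm (QuotientGroup.mk y') = t := by
        rw [MulEquiv.symm_apply_eq]
        apply (pe hG).injective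
        rw [pe_mk, hoy, hy]
        rfl
      rw [h2]
      exact ht
    have h3 : orderOf y' = r := by
      refine orderOf_eq_prime (by rw [hy', ← map_pow, hyr, map_one]) fun h => hy1 ?_
      rw [← hoy, h, map_one]
    have h4 : orderOf ((y' : isometryGroup F ⇑Q) : GL I8 F) = r := by
      rw [← h3]
      exact orderOf_injective _ hinj y'
    obtain ⟨v, hv, hv0⟩ := (Submodule.ne_bot_iff _).1 (hfx _ h1 h4)
    refine ⟨v, hv0, ?_⟩
    rw [← hoy, oe_lin]
    exact H951.mem_fx.1 hv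
  obtain ⟨t₀, ht₀⟩ := exists_prime_orderOf_dvd_card' r hd
  set t : T := (t₀ : T) with ht
  have htX : (t : G) ∈ X := t₀.2
  have htr : orderOf t = r := by rw [ht, Subgroup.orderOf_coe, ht₀]
  have htr1 : t ^ r = 1 := by rw [← htr]; exact pow_orderOf_eq_one t
  have ht1 : t ≠ 1 := by
    intro h
    rw [h, orderOf_one] at htr
    exact hr.prime.one_lt.ne htr
  obtain ⟨g, hg, hgr⟩ := exists_lift hQ hG hodd (z := eP hG eT t) (by rw [← map_pow, htr1, map_one])
  have hg1 : g ≠ 1 := by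
    intro h
    apply ht1
    apply (eP hG eT).injective
    rw [← hg, h, map_one]
    rfl
  have hgv := key t g htX hg hgr hg1
  set t' : T := MulAut.conjNormal x t with ht'
  have ht'X : (t' : G) ∈ X := by
    rw [ht', MulAut.conjNormal_apply]
    exact X.mul_mem (X.mul_mem hx htX) (X.inv_mem hx)
  have ht'r : t' ^ r = 1 := by rw [ht', ← map_pow, htr1, map_one]
  have ht'1 : t' ≠ 1 := by
    intro h
    apply ht1
    rw [ht'] at h
    exact (MulAut.conjNormal x).injective (by rw [h, map_one])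
  obtain ⟨y, hy, hyr⟩ := exists_lift hQ hG hodd (z := eP hG eT t') (by rw [← map_pow, ht'r, map_one])
  have hy1 : y ≠ 1 := by
    intro h
    apply ht'1
    apply (eP hG eT).injective
    rw [← hy, h, map_one]
    rfl
  obtain ⟨v, hv0, hv⟩ := key t' y ht'X hy hyr hy1
  by_contra hα
  subst hQ
  refine hv0 (aut_no_fix hG hr hgr hg1 hgv hα (y := y) ?_ hyr v hv)
  rw [hy, ht', ← autP_apply, hg]

end gen

section row

variable {F : Type} [Field F] [Fintype F] {p a r b s k t : ℕ} {G : Type u} [Group G] [Finite G] {T X Y : Subgroup G}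

theorem good8 : Good (H198.Carriers.plusQ 4 F) := H198.Carriers.good_plusQ (by norm_num)

/-- **no element of `X` induces a triality automorphism** -/
theorem range_of_fix (hF : Nat.card F = p ^ a) (h : Nm p a r b s k t) [T.Normal] (eT : T ≃* T8 F)
    (hV : FixV ((X.subgroupOf T).map eT.toMonoidHom) ∨ FixP ((X.subgroupOf T).map eT.toMonoidHom))
    (hr : r ∣ Nat.card (X.subgroupOf T)) {x : G} (hx : x ∈ X) :
    autP (eP (Q := H198.Carriers.plusQ 4 F) good8 eT) x ∈ (Psi (H198.Carriers.plusQ 4 F)).range :=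
  range_of (H198.Carriers.plusQ_eq 4 F) good8 (pp_of_nm hF h) eT
    (fun _ hg hgr => fx_ne_bot (pp_of_nm hF h) hV hg hgr) hr hx

/-- the common part -/
theorem g1 (hF : Nat.card F = p ^ a) (h : Nm p a r b s k t) (hf : Fac T X Y) [T.Normal] (eT : T ≃* T8 F)
    (hV : FixV ((X.subgroupOf T).map eT.toMonoidHom) ∨ FixP ((X.subgroupOf T).map eT.toMonoidHom))
    (hr : r ∣ Nat.card (X.subgroupOf T)) :
    ∃ (H : Subgroup G) (hT : T ≤ H), X ≤ H ∧ Fac (T.subgroupOf H) (X.subgroupOf H) (Y.subgroupOf H) ∧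
      Ind (eP (Q := H198.Carriers.plusQ 4 F) good8 (eSub (Q := H198.Carriers.plusQ 4 F) hT eT)) := by
  have hX : X ≤ G1 (eP (Q := H198.Carriers.plusQ 4 F) good8 eT) := fun x hx => range_of_fix hF h eT hV hr hx
  exact ⟨G1 (eP (Q := H198.Carriers.plusQ 4 F) good8 eT), T_le_G1 _, hX, fac_sub hf (T_le_G1 _) hX, ind_G1⟩

theorem le_stab {R : Subgroup (GL I8 F)} {W : Submodule F (I8 → F)} (h : R ≤ SW W) : R ≤ subspaceStabilizer W := by
  intro g hg
  refine H884.OmegaGL.mem_subspaceStabilizer.2 fun w hw => ?_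
  have h1 : W.map (lin g) = W := h hg
  rw [← h1]
  exact ⟨w, hw, by rw [H884.El.lin, Matrix.toLin'_apply]; rfl⟩

/-- **reduction, point case** -/
theorem g1_V (hF : Nat.card F = p ^ a) (h : Nm p a r b s k t) (hf : Fac T X Y) [T.Normal] (eT : T ≃* T8 F)
    {w : I8 → F} (hw : quadFormPlus 4 F w ≠ 0)
    (hle : pre (quadFormPlus 4 F) ((X.subgroupOf T).map eT.toMonoidHom) ≤ SW (Submodule.span F {w}))
    (hs : HasSieg ((X.subgroupOf T).map eT.toMonoidHom) (Submodule.span F {w})) (hr : r ∣ Nat.card (X.subgroupOf T)) :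
    ∃ (H : Subgroup G) (hT : T ≤ H), X ≤ H ∧ Fac (T.subgroupOf H) (X.subgroupOf H) (Y.subgroupOf H) ∧
      ∃ hI : Ind (eP (Q := H198.Carriers.plusQ 4 F) good8 (eSub (Q := H198.Carriers.plusQ 4 F) hT eT)),
        ResV hI (X.subgroupOf H) w := by
  obtain ⟨H, hT, hX, hf', hI⟩ := g1 hF h hf eT (Or.inl ⟨w, hw, hle⟩) hr
  refine ⟨H, hT, hX, hf', hI, resV_of hI hw (by simp) ?_ ?_⟩
  · intro g hg
    exact le_stab hle ((mem_preG_eSub hT g).1 hg)
  · intro u w' hu hw' huv hwv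
    refine (mem_preG_eSub (Q := H198.Carriers.plusQ 4 F) hT _).2 ?_
    have key : ∀ z : I8 → F, polar (H198.Carriers.plusQ 4 F) z w = 0 →
        ∀ v ∈ Submodule.span F {w}, polar (plusForm 4 F) z v = 0 := by
      intro z hz v hv
      obtain ⟨c, rfl⟩ := Submodule.mem_span_singleton.1 hv
      rw [← H198.Carriers.plusQ_eq, polar_smul_right, hz, smul_zero]
    have h1 := hs u w' (by rw [← H198.Carriers.plusQ_eq]; exact hu) (by rw [← H198.Carriers.plusQ_eq]; exact hw')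
      (key u huv) (key w' hwv)
    have h2 : ∀ (Q : QuadraticForm F (I8 → F)) (hQ : plusForm 4 F = Q) (h1 : plusForm 4 F u = 0)
        (h2 : polar (plusForm 4 F) u w' = 0) (h3 : Q u = 0) (h4 : polar Q u w' = 0),
        siegel (plusForm 4 F) u w' h1 h2 = siegel Q u w' h3 h4 := by
      rintro _ rfl _ _ _ _
      rfl
    rw [h2 _ (H198.Carriers.plusQ_eq 4 F).symm _ _ hu hw'] at h1
    exact h1

/-- **reduction, plane case** -/
theorem g1_P (hF : Nat.card F = p ^ a) (h : Nm p a r b s k t) (hf : Fac T X Y) [T.Normal] (eT : T ≃* T8 F)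
    {W : Submodule F (I8 → F)} (hW : finrank F W = 2) (hW0 : ∀ w ∈ W, quadFormPlus 4 F w = 0 → w = 0)
    (hle : pre (quadFormPlus 4 F) ((X.subgroupOf T).map eT.toMonoidHom) ≤ SW W)
    (hs : HasSieg ((X.subgroupOf T).map eT.toMonoidHom) W) (hr : r ∣ Nat.card (X.subgroupOf T)) :
    ∃ (H : Subgroup G) (hT : T ≤ H), X ≤ H ∧ Fac (T.subgroupOf H) (X.subgroupOf H) (Y.subgroupOf H) ∧
      ∃ hI : Ind (eP (Q := H198.Carriers.plusQ 4 F) good8 (eSub (Q := H198.Carriers.plusQ 4 F) hT eT)),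
        ResP hI (X.subgroupOf H) W := by
  obtain ⟨H, hT, hX, hf', hI⟩ := g1 hF h hf eT (Or.inr ⟨W, hW, hW0, hle⟩) hr
  refine ⟨H, hT, hX, hf', hI, resP_of hI hW hW0 (by simp) ?_ ?_⟩
  · intro g hg
    exact le_stab hle ((mem_preG_eSub hT g).1 hg)
  · intro u w' hu hw' huv hwv
    refine (mem_preG_eSub (Q := H198.Carriers.plusQ 4 F) hT _).2 ?_
    have key : ∀ z : I8 → F, z ∈ perp (H198.Carriers.plusQ 4 F) W → ∀ v ∈ W, polar (plusForm 4 F) z v = 0 := by
      intro z hz v hv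
      rw [← H198.Carriers.plusQ_eq]
      exact mem_perp'.1 hz v hv
    have h1 := hs u w' (by rw [← H198.Carriers.plusQ_eq]; exact hu) (by rw [← H198.Carriers.plusQ_eq]; exact hw')
      (key u huv) (key w' hwv)
    have h2 : ∀ (Q : QuadraticForm F (I8 → F)) (hQ : plusForm 4 F = Q) (h1 : plusForm 4 F u = 0)
        (h2 : polar (plusForm 4 F) u w' = 0) (h3 : Q u = 0) (h4 : polar Q u w' = 0),
        siegel (plusForm 4 F) u w' h1 h2 = siegel Q u w' h3 h4 := by
      rintro _ rfl _ _ _ _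
      rfl
    rw [h2 _ (H198.Carriers.plusQ_eq 4 F).symm _ _ hu hw'] at h1
    exact h1

end row

end Cfsg.Agent.H708.Rg
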