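import Cfsg.Agent.H198.TriInn
import Cfsg.Agent.H884.ElRows

/-!
# S3691, `PΩ⁺₈(q)`: triality and elements of order `r₄` (helper708)

* `tri_no_fix₁`, `tri_no_fix₂` : `g (x y) = g₁ x · g₂ y`, `g` of prime order `r`, `ord_r(q) = 4`, fixes a nonzero vector:
  `g₁` and `g₂` (of order `r`) have no nonzero fixed vector;
* `aut_no_fix` : the same for every automorphism of `PΩ⁺₈(q)` which does not come from a semisimilarity.
-/

set_option autoImplicit false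

namespace Cfsg.Agent.H708.Rg

open Module QuadraticMap Cfsg.Agent.LieClassical.OrthCore Cfsg.Agent.LieClassical.OrthTrans
  Cfsg.Agent.LieClassical.OrthSimple Cfsg.Agent.ClassicalGeometry.OrthAut1
  Cfsg.Agent.ClassicalGeometry.OrthSemi Cfsg.Agent.H198.Classes
  Cfsg.Agent.LieClassical.QuadForms Cfsg.Agent.H198.ClassesPlus
  Cfsg.Agent.ClassicalGeometry.TrialityOct Cfsg.Agent.ClassicalGeometry.Triality
  Cfsg.Agent.ClassicalGeometry.TrialitySpaces Cfsg.Agent.H198.TriBase Cfsg.Agent.H198.TriAut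
open Cfsg.Agent.H884.El Cfsg.Agent.H955 Cfsg.Agent.H954.TSing
open Cfsg.Agent.H951 (fx cm Inv)

universe u

variable {F : Type u} [Field F] [Fintype F] {r : ℕ}

omit [Fintype F] in
theorem finrank_V8 : finrank F (V8 F) = 8 := by
  rw [finrank_fintype_fun_eq_card]
  simp

/-- the linear map of an element of `O` -/
abbrev en (g : V8 F ≃ₗ[F] V8 F) : Module.End F (V8 F) := g

omit [Fintype F] in
theorem en_pow (g : V8 F ≃ₗ[F] V8 F) (n : ℕ) : en g ^ n = en (g ^ n) := by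
  induction n with
  | zero => rfl
  | succ n ih => rw [pow_succ, ih, pow_succ]; rfl

theorem iso_en (hr : PP (Nat.card F) 4 r) {g : V8 F ≃ₗ[F] V8 F} (hg : ∀ v, plusForm 4 F (g v) = plusForm 4 F v)
    (hgr : g ^ r = 1) : Iso (plusForm 4 F) (en g) r :=
  Iso.mk' hr (by norm_num) (by rw [en_pow, hgr]; rfl) hg

theorem cm_four (hr : PP (Nat.card F) 4 r) {g : V8 F ≃ₗ[F] V8 F} (hg : ∀ v, plusForm 4 F (g v) = plusForm 4 F v)
    (hgr : g ^ r = 1) (hne : g ≠ 1) (hv : ∃ v, v ≠ 0 ∧ g v = v) : finrank F (cm (en g)) = 4 := by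
  have h := iso_en hr hg hgr
  have h1 : 4 ∣ finrank F (cm (en g)) := h.dvd_cm hr
  have h2 : finrank F (fx (en g)) + finrank F (cm (en g)) = 8 := by
    rw [← finrank_V8 (F := F)]
    exact h.finrank_add
  have h3 : finrank F (cm (en g)) ≠ 0 := fun h0 => cm_ne_bot (x := en g) (fun h1 => hne (by
    ext1 v
    exact LinearMap.congr_fun h1 v)) (Submodule.finrank_eq_zero.1 h0)
  have h4 : finrank F (fx (en g)) ≠ 0 := by
    intro h0
    obtain ⟨v, hv0, hv⟩ := hv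
    have h5 : v ∈ fx (en g) := H951.mem_fx.2 hv
    rw [Submodule.finrank_eq_zero.1 h0, Submodule.mem_bot] at h5
    exact hv0 h5
  obtain ⟨k, hk⟩ := h1
  omega

/-- a totally singular four-dimensional subspace is not invariant -/
theorem no_ts (hr : PP (Nat.card F) 4 r) {g : V8 F ≃ₗ[F] V8 F} (hg : ∀ v, plusForm 4 F (g v) = plusForm 4 F v)
    (hgr : g ^ r = 1) (hne : g ≠ 1) (hv : ∃ v, v ≠ 0 ∧ g v = v) {X : Submodule F (V8 F)} (hX : ∀ v ∈ X, g v ∈ X)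
    (hXs : ∀ v ∈ X, plusForm 4 F v = 0) (hd : finrank F X = 4) : False := by
  have h := iso_en hr hg hgr
  have h4 := cm_four hr hg hgr hne hv
  have hne' : en g ≠ 1 := fun h1 => hne (by
    ext1 v
    exact LinearMap.congr_fun h1 v)
  have h1 : X ≤ fx (en g) := h.ts_le ClassicalGeometry.Triality.nondeg8 hne' hr h4 hX hXs
  have h2 : finrank F (fx (en g)) + finrank F (cm (en g)) = 8 := by
    rw [← finrank_V8 (F := F)]
    exact h.finrank_add
  have h3 : X = fx (en g) := Submodule.eq_of_le_of_finrank_eq h1 (by omega)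
  refine ts_not_nondeg hXs le_rfl (U := X) ?_ ?_
  · intro h0
    rw [h0, finrank_bot] at hd
    omega
  · have h5 := nondeg_fx ClassicalGeometry.Triality.nondeg8 h.iso h.ne0 h.pow
    rw [h3]
    exact h5

/-- no fixed singular vectors, hence no fixed vectors -/
theorem no_fix_of_sing (hr : PP (Nat.card F) 4 r) {g : V8 F ≃ₗ[F] V8 F}
    (hg : ∀ v, plusForm 4 F (g v) = plusForm 4 F v)
    (hgr : g ^ r = 1) (hs : ∀ v, plusForm 4 F v = 0 → g v = v → v = 0) : ∀ v, g v = v → v = 0 := by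
  have h := iso_en hr hg hgr
  have h1 : 4 ∣ finrank F (cm (en g)) := h.dvd_cm hr
  have h2 : finrank F (fx (en g)) + finrank F (cm (en g)) = 8 := by
    rw [← finrank_V8 (F := F)]
    exact h.finrank_add
  have h3 : finrank F (fx (en g)) < 3 := by
    by_contra hcon
    push Not at hcon
    obtain ⟨v, hv, hv0, hvs⟩ := Cfsg.Agent.LieClassical.OrthFinite.exists_sing_mem (Q := plusForm 4 F) (fx (en g)) hcon
    exact hv0 (hs v hvs (H951.mem_fx.1 hv))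
  have h4 : finrank F (fx (en g)) = 0 := by
    obtain ⟨k, hk⟩ := h1
    omega
  intro v hv
  have h5 : v ∈ fx (en g) := H951.mem_fx.2 hv
  rwa [Submodule.finrank_eq_zero.1 h4, Submodule.mem_bot] at h5

theorem tri_no_fix₁ (hr : PP (Nat.card F) 4 r) {g g₁ : V8 F ≃ₗ[F] V8 F} {g₂ : V8 F → V8 F}
    (h : ∀ x y, g (omul x y) = omul (g₁ x) (g₂ y))
    (hg : ∀ v, plusForm 4 F (g v) = plusForm 4 F v) (hg₁ : ∀ v, plusForm 4 F (g₁ v) = plusForm 4 F v)
    (hgr : g ^ r = 1) (hgr₁ : g₁ ^ r = 1) (hne : g ≠ 1) (hv : ∃ v, v ≠ 0 ∧ g v = v) : ∀ v, g₁ v = v → v = 0 := by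
  refine no_fix_of_sing hr hg₁ hgr₁ fun v hv1 hv2 => ?_
  by_contra hv0
  refine no_ts hr hg hgr hne hv (X := leftSp v) ?_ (leftSp_sing hv1) (finrank_leftSp hv1 hv0)
  rintro _ ⟨y, rfl⟩
  change g (omul v y) ∈ leftSp v
  rw [h, hv2]
  exact ⟨g₂ y, rfl⟩

theorem tri_no_fix₂ (hr : PP (Nat.card F) 4 r) {g g₂ : V8 F ≃ₗ[F] V8 F} {g₁ : V8 F → V8 F}
    (h : ∀ x y, g (omul x y) = omul (g₁ x) (g₂ y))
    (hg : ∀ v, plusForm 4 F (g v) = plusForm 4 F v) (hg₂ : ∀ v, plusForm 4 F (g₂ v) = plusForm 4 F v)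
    (hgr : g ^ r = 1) (hgr₂ : g₂ ^ r = 1) (hne : g ≠ 1) (hv : ∃ v, v ≠ 0 ∧ g v = v) : ∀ v, g₂ v = v → v = 0 := by
  refine no_fix_of_sing hr hg₂ hgr₂ fun v hv1 hv2 => ?_
  by_contra hv0
  refine no_ts hr hg hgr hne hv (X := rightSp v) ?_ (rightSp_sing hv1) (finrank_rightSp hv1 hv0)
  rintro _ ⟨y, rfl⟩
  change g (omul y v) ∈ rightSp v
  rw [h, hv2]
  exact ⟨g₁ y, rfl⟩

/-! ### Automorphisms -/

theorem rho_inv_mk (hG : Good (plusForm 4 F)) {g g₂ : ↥(E (plusForm 4 F))} {g₁ : V8 F ≃ₗ[F] V8 F}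
    (h : TriE (g : V8 F ≃ₗ[F] V8 F) g₁ g₂) :
    (rho hG)⁻¹ (g : P8 F) = ((⟨kap F * g₂ * kap F, kap_conj_mem g₂.2⟩ : ↥(E (plusForm 4 F))) : P8 F) := by
  have h1 : TriE ((⟨kap F * g₂ * kap F, kap_conj_mem g₂.2⟩ : ↥(E (plusForm 4 F))) : V8 F ≃ₗ[F] V8 F)
      ((⟨kap F * g * kap F, kap_conj_mem g.2⟩ : ↥(E (plusForm 4 F))) : V8 F ≃ₗ[F] V8 F)
      (kap F * (kap F * g₁ * kap F) * kap F) := h.rot.rot
  have h2 := rho_mk hG h1
  rw [MulAut.inv_apply, MulEquiv.symm_apply_eq, h2]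
  refine congrArg _ (Subtype.ext ?_)
  exact (kap_conj_conj _).symm

theorem iso_of_E {g : V8 F ≃ₗ[F] V8 F} (hg : g ∈ E (plusForm 4 F)) (v : V8 F) :
    plusForm 4 F (g v) = plusForm 4 F v := E_le_O hg v

/-- lifts of `κ k κ` -/
theorem lift_kap (hG : Good (plusForm 4 F)) {y k : ↥(E (plusForm 4 F))}
    (h : (y : P8 F) = ((⟨kap F * k * kap F, kap_conj_mem k.2⟩ : ↥(E (plusForm 4 F))) : P8 F)) :
    ∃ c : F, c ≠ 0 ∧ ∀ v, (kap F * (y : V8 F ≃ₗ[F] V8 F) * kap F) v = c • (k : V8 F ≃ₗ[F] V8 F) v := by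
  have h1 := QuotientGroup.eq.1 h.symm
  obtain ⟨c, hc⟩ := center_scalar hG h1
  have h2 : ∀ v, (y : V8 F ≃ₗ[F] V8 F) v = c • kap F ((k : V8 F ≃ₗ[F] V8 F) (kap F v)) := by
    intro v
    have h3 := hc v
    have h4 := congrArg (kap F * (k : V8 F ≃ₗ[F] V8 F) * kap F) h3
    rw [map_smul] at h4
    have h5 : (kap F * (k : V8 F ≃ₗ[F] V8 F) * kap F)
        ((((⟨kap F * k * kap F, kap_conj_mem k.2⟩ : ↥(E (plusForm 4 F)))⁻¹ * y : ↥(E (plusForm 4 F))) :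
          V8 F ≃ₗ[F] V8 F) v) = (y : V8 F ≃ₗ[F] V8 F) v := by
      change ((kap F * (k : V8 F ≃ₗ[F] V8 F) * kap F) * ((kap F * (k : V8 F ≃ₗ[F] V8 F) * kap F)⁻¹ * y)) v = _
      rw [mul_inv_cancel_left]
    rw [h5] at h4
    exact h4
  refine ⟨c, ?_, fun v => ?_⟩
  · rintro rfl
    have h6 := h2 (one8 F)
    rw [zero_smul] at h6
    have h7 := iso_of_E y.2 (one8 F)
    rw [h6, QuadraticMap.map_zero, norm_one8] at h7
    exact zero_ne_one h7
  · change kap F ((y : V8 F ≃ₗ[F] V8 F) (kap F v)) = _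
    rw [h2, map_smul]
    change c • oconj (oconj ((k : V8 F ≃ₗ[F] V8 F) (oconj (oconj v)))) = _
    rw [oconj_oconj, oconj_oconj]

theorem kap_pow (y : V8 F ≃ₗ[F] V8 F) (n : ℕ) : (kap F * y * kap F) ^ n = kap F * y ^ n * kap F := by
  induction n with
  | zero => rw [pow_zero, pow_zero, mul_one, kap_mul_kap]
  | succ n ih =>
    rw [pow_succ, ih, pow_succ]
    have : kap F * y ^ n * kap F * (kap F * y * kap F) = kap F * y ^ n * (kap F * kap F) * y * kap F := by group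
    rw [this, kap_mul_kap, mul_one, mul_assoc (kap F)]

/-- **triality and elements of order `r₄` with fixed vectors** -/
theorem aut_no_fix (hG : Good (plusForm 4 F)) (hr : PP (Nat.card F) 4 r) {g : ↥(E (plusForm 4 F))}
    (hgr : g ^ r = 1) (hne : g ≠ 1) (hv : ∃ v, v ≠ 0 ∧ (g : V8 F ≃ₗ[F] V8 F) v = v) {α : MulAut (P8 F)}
    (hα : α ∉ (Psi (plusForm 4 F)).range) {y : ↥(E (plusForm 4 F))} (hy : (y : P8 F) = α (g : P8 F))
    (hyr : y ^ r = 1) : ∀ v, (y : V8 F ≃ₗ[F] V8 F) v = v → v = 0 := by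
  obtain ⟨i, M, hi, rfl⟩ := aut_cases hG α
  set g' : ↥(E (plusForm 4 F)) := conjE _ M g with hg'
  have hg'r : (g' : V8 F ≃ₗ[F] V8 F) ^ r = 1 := by
    have : g' ^ r = 1 := by rw [hg', ← map_pow, hgr, map_one]
    exact congrArg Subtype.val this
  have hg'ne : (g' : V8 F ≃ₗ[F] V8 F) ≠ 1 := by
    intro h
    apply hne
    have h1 : g' = 1 := Subtype.ext h
    exact (conjE _ M).injective (by rw [← hg', h1, map_one])
  have hg'v : ∃ v, v ≠ 0 ∧ (g' : V8 F ≃ₗ[F] V8 F) v = v := by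
    obtain ⟨v, hv0, hv⟩ := hv
    refine ⟨M.1 v, ?_, ?_⟩
    · obtain ⟨σ, c, hM⟩ := M.2
      rw [← hM.map_zero]
      exact fun h => hv0 (M.1.injective h)
    · rw [hg', coe_conjE, conjLin_apply', hv]
  have hyr' : (kap F * (y : V8 F ≃ₗ[F] V8 F) * kap F) ^ r = 1 := by
    have h1 : (y : V8 F ≃ₗ[F] V8 F) ^ r = 1 := congrArg Subtype.val hyr
    rw [kap_pow, h1, mul_one, kap_mul_kap]
  obtain ⟨g₁, g₂, h⟩ := exists_triple hG g'.2
  have key : (∀ v, (kap F * (y : V8 F ≃ₗ[F] V8 F) * kap F) v = v → v = 0) →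
      ∀ v, (y : V8 F ≃ₗ[F] V8 F) v = v → v = 0 := by
    intro hk v hv
    have h1 : (kap F * (y : V8 F ≃ₗ[F] V8 F) * kap F) (oconj v) = oconj v := by
      change oconj ((y : V8 F ≃ₗ[F] V8 F) (oconj (oconj v))) = _
      rw [oconj_oconj, hv]
    have h2 := hk _ h1
    rw [← oconj_oconj v, h2]
    exact (kap F).map_zero
  apply key
  have e : (rho hG ^ i * Psi _ M) (g : P8 F) = (rho hG ^ i) (g' : P8 F) := by
    rw [MulAut.mul_apply, Psi_mk]
  rw [e] at hy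
  interval_cases i
  · exact absurd ⟨M, by rw [pow_zero, one_mul]⟩ hα
  · rw [pow_one, rho_mk hG (g₁ := ⟨g₁, h.1.2.1⟩) h] at hy
    obtain ⟨c, hc0, hc⟩ := lift_kap hG (k := ⟨g₁, h.1.2.1⟩) hy
    refine tri_no_fix₁ hr (g₂ := fun z => c⁻¹ • g₂ z) (fun x z => ?_) (iso_of_E g'.2)
      (iso_of_E (kap_conj_mem y.2)) hg'r hyr' hg'ne hg'v
    rw [hc, omul_smul, smul_omul, smul_smul, inv_mul_cancel₀ hc0, one_smul]
    exact h.2 x z
  · rw [rho_sq, rho_inv_mk hG (g₂ := ⟨g₂, h.1.2.2⟩) h] at hy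
    obtain ⟨c, hc0, hc⟩ := lift_kap hG (k := ⟨g₂, h.1.2.2⟩) hy
    refine tri_no_fix₂ hr (g₁ := fun z => c⁻¹ • g₁ z) (fun x z => ?_) (iso_of_E g'.2)
      (iso_of_E (kap_conj_mem y.2)) hg'r hyr' hg'ne hg'v
    rw [hc, omul_smul, smul_omul, smul_smul, mul_inv_cancel₀ hc0, one_smul]
    exact h.2 x z

end Cfsg.Agent.H708.Rg
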